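import Cfsg.Agent.OnanOut.Setup

/-! Generated: excluded candidates -/

set_option autoImplicit false
set_option maxRecDepth 100000
set_option Elab.async false

namespace CfsgLib.OnanOut

theorem cand1_0 : ((Data.ck.drop 0).take 18).all (onA.candOK cert bsK 1) = true := by
  decide +kernel

theorem cand1_18 : ((Data.ck.drop 18).take 18).all (onA.candOK cert bsK 1) = true := by
  decide +kernel

theorem cand1_36 : ((Data.ck.drop 36).take 18).all (onA.candOK cert bsK 1) = true := by
  decide +kernel

theorem cand1_54 : ((Data.ck.drop 54).take 18).all (onA.candOK cert bsK 1) = true := by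
  decide +kernel

theorem cand2_0 : ((Data.ck.drop 0).take 18).all (onA.candOK cert bsK 2) = true := by
  decide +kernel

theorem cand2_18 : ((Data.ck.drop 18).take 18).all (onA.candOK cert bsK 2) = true := by
  decide +kernel

theorem cand2_36 : ((Data.ck.drop 36).take 18).all (onA.candOK cert bsK 2) = true := by
  decide +kernel

theorem cand2_54 : ((Data.ck.drop 54).take 18).all (onA.candOK cert bsK 2) = true := by
  decide +kernel

theorem cand4_0 : ((Data.ck.drop 0).take 18).all (onA.candOK cert bsK 4) = true := by
  decide +kernel

theorem cand4_18 : ((Data.ck.drop 18).take 18).all (onA.candOK cert bsK 4) = true := by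
  decide +kernel

theorem cand4_36 : ((Data.ck.drop 36).take 18).all (onA.candOK cert bsK 4) = true := by
  decide +kernel

theorem cand4_54 : ((Data.ck.drop 54).take 18).all (onA.candOK cert bsK 4) = true := by
  decide +kernel

end CfsgLib.OnanOut
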