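import Cfsg.Agent.OnanOut.Setup

/-! Generated: transversal entries -/

set_option autoImplicit false
set_option maxRecDepth 100000
set_option Elab.async false

namespace CfsgLib.OnanOut

theorem e_lvK10 : (unpackPart Data.lvK1P0).all (onA.entryOK [0] 667) = true := by
  decide +kernel

theorem e_lvK11 : (unpackPart Data.lvK1P1).all (onA.entryOK [0] 667) = true := by
  decide +kernel

theorem e_lvK12 : (unpackPart Data.lvK1P2).all (onA.entryOK [0] 667) = true := by
  decide +kernel

theorem e_lvK13 : (unpackPart Data.lvK1P3).all (onA.entryOK [0] 667) = true := by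
  decide +kernel

theorem e_lvK14 : (unpackPart Data.lvK1P4).all (onA.entryOK [0] 667) = true := by
  decide +kernel

theorem e_lvK15 : (unpackPart Data.lvK1P5).all (onA.entryOK [0] 667) = true := by
  decide +kernel

theorem e_lvK16 : (unpackPart Data.lvK1P6).all (onA.entryOK [0] 667) = true := by
  decide +kernel

theorem e_lvK17 : (unpackPart Data.lvK1P7).all (onA.entryOK [0] 667) = true := by
  decide +kernel

theorem e_lvK18 : (unpackPart Data.lvK1P8).all (onA.entryOK [0] 667) = true := by
  decide +kernel

theorem e_lvK19 : (unpackPart Data.lvK1P9).all (onA.entryOK [0] 667) = true := by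
  decide +kernel

theorem e_lvK110 : (unpackPart Data.lvK1P10).all (onA.entryOK [0] 667) = true := by
  decide +kernel

theorem e_lvK111 : (unpackPart Data.lvK1P11).all (onA.entryOK [0] 667) = true := by
  decide +kernel

theorem e_lvK112 : (unpackPart Data.lvK1P12).all (onA.entryOK [0] 667) = true := by
  decide +kernel

theorem inc_lvK1 : increasing (mkLevel 667 Data.lvK1T).tr = true := by
  decide +kernel

theorem len_lvK1 : (mkLevel 667 Data.lvK1T).tr.length = 6384 := by
  decide +kernel

theorem e_lvK20 : (unpackPart Data.lvK2P0).all (onA.entryOK [667, 0] 2463) = true := by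
  decide +kernel

theorem inc_lvK2 : increasing (mkLevel 2463 Data.lvK2T).tr = true := by
  decide +kernel

theorem len_lvK2 : (mkLevel 2463 Data.lvK2T).tr.length = 49 := by
  decide +kernel

theorem e_lvK30 : (unpackPart Data.lvK3P0).all (onA.entryOK [2463, 667, 0] 1) = true := by
  decide +kernel

theorem inc_lvK3 : increasing (mkLevel 1 Data.lvK3T).tr = true := by
  decide +kernel

theorem len_lvK3 : (mkLevel 1 Data.lvK3T).tr.length = 12 := by
  decide +kernel

theorem e_lvY10 : (unpackPart Data.lvY1P0).all (onA.entryOK [0] 878) = true := by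
  decide +kernel

theorem e_lvY11 : (unpackPart Data.lvY1P1).all (onA.entryOK [0] 878) = true := by
  decide +kernel

theorem e_lvY12 : (unpackPart Data.lvY1P2).all (onA.entryOK [0] 878) = true := by
  decide +kernel

theorem e_lvY13 : (unpackPart Data.lvY1P3).all (onA.entryOK [0] 878) = true := by
  decide +kernel

theorem e_lvY14 : (unpackPart Data.lvY1P4).all (onA.entryOK [0] 878) = true := by
  decide +kernel

theorem e_lvY15 : (unpackPart Data.lvY1P5).all (onA.entryOK [0] 878) = true := by
  decide +kernel

theorem e_lvY16 : (unpackPart Data.lvY1P6).all (onA.entryOK [0] 878) = true := by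
  decide +kernel

theorem e_lvY17 : (unpackPart Data.lvY1P7).all (onA.entryOK [0] 878) = true := by
  decide +kernel

theorem e_lvY18 : (unpackPart Data.lvY1P8).all (onA.entryOK [0] 878) = true := by
  decide +kernel

theorem e_lvY19 : (unpackPart Data.lvY1P9).all (onA.entryOK [0] 878) = true := by
  decide +kernel

theorem e_lvY110 : (unpackPart Data.lvY1P10).all (onA.entryOK [0] 878) = true := by
  decide +kernel

theorem e_lvY111 : (unpackPart Data.lvY1P11).all (onA.entryOK [0] 878) = true := by
  decide +kernel

theorem inc_lvY1 : increasing (mkLevel 878 Data.lvY1T).tr = true := by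
  decide +kernel

theorem len_lvY1 : (mkLevel 878 Data.lvY1T).tr.length = 5586 := by
  decide +kernel

theorem e_lvY20 : (unpackPart Data.lvY2P0).all (onA.entryOK [878, 0] 1975) = true := by
  decide +kernel

theorem e_lvY21 : (unpackPart Data.lvY2P1).all (onA.entryOK [878, 0] 1975) = true := by
  decide +kernel

theorem inc_lvY2 : increasing (mkLevel 1975 Data.lvY2T).tr = true := by
  decide +kernel

theorem len_lvY2 : (mkLevel 1975 Data.lvY2T).tr.length = 672 := by
  decide +kernel

end CfsgLib.OnanOut
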