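import Cfsg.Agent.OnanOut.Setup

/-! Generated: identities between words -/

set_option autoImplicit false
set_option maxRecDepth 100000
set_option Elab.async false

namespace CfsgLib.OnanOut

theorem facts_ok : onA.factsOK cert bsK = true := by
  decide +kernel

theorem hom_inv : CosetEnum.allBelow (fun x => onA.eqOn bsK (onA.image cert (onA.D.iv x)) (onA.winv (onA.image cert x))) onA.D.L = true := by
  decide +kernel

theorem hom_y : onA.eqOn bsK (Act.sub (onA.image cert) cert.yw) cert.yw = true := by
  decide +kernel

theorem hom_k : onA.eqOn bsK (Act.sub (onA.image cert) cert.kw) cert.kw = true := by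
  decide +kernel

theorem hom_z : onA.eqOn bsK (Act.sub (onA.image cert) cert.zw) cert.zpw = true := by
  decide +kernel

end CfsgLib.OnanOut
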