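import Cfsg.Agent.OnanOut.Setup

/-! Generated: fixed points -/

set_option autoImplicit false
set_option maxRecDepth 100000
set_option Elab.async false

namespace CfsgLib.OnanOut

theorem fixk16000 : CosetEnum.allFrom (fixTest Data.kw Data.fixPts) 16000 2000 = true := by
  decide +kernel

theorem fixk18000 : CosetEnum.allFrom (fixTest Data.kw Data.fixPts) 18000 2000 = true := by
  decide +kernel

theorem fixk20000 : CosetEnum.allFrom (fixTest Data.kw Data.fixPts) 20000 2000 = true := by
  decide +kernel

theorem fixk22000 : CosetEnum.allFrom (fixTest Data.kw Data.fixPts) 22000 2000 = true := by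
  decide +kernel

theorem fixk24000 : CosetEnum.allFrom (fixTest Data.kw Data.fixPts) 24000 2000 = true := by
  decide +kernel

theorem fixk26000 : CosetEnum.allFrom (fixTest Data.kw Data.fixPts) 26000 2000 = true := by
  decide +kernel

theorem fixk28000 : CosetEnum.allFrom (fixTest Data.kw Data.fixPts) 28000 2000 = true := by
  decide +kernel

theorem fixk30000 : CosetEnum.allFrom (fixTest Data.kw Data.fixPts) 30000 2000 = true := by
  decide +kernel

end CfsgLib.OnanOut
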