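import Cfsg.Agent.OnanOut.Setup

/-! Generated: fixed points -/

set_option autoImplicit false
set_option maxRecDepth 100000
set_option Elab.async false

namespace CfsgLib.OnanOut

theorem fixk32000 : CosetEnum.allFrom (fixTest Data.kw Data.fixPts) 32000 2000 = true := by
  decide +kernel

theorem fixk34000 : CosetEnum.allFrom (fixTest Data.kw Data.fixPts) 34000 2000 = true := by
  decide +kernel

theorem fixk36000 : CosetEnum.allFrom (fixTest Data.kw Data.fixPts) 36000 2000 = true := by
  decide +kernel

theorem fixk38000 : CosetEnum.allFrom (fixTest Data.kw Data.fixPts) 38000 2000 = true := by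
  decide +kernel

theorem fixk40000 : CosetEnum.allFrom (fixTest Data.kw Data.fixPts) 40000 2000 = true := by
  decide +kernel

theorem fixk42000 : CosetEnum.allFrom (fixTest Data.kw Data.fixPts) 42000 2000 = true := by
  decide +kernel

theorem fixk44000 : CosetEnum.allFrom (fixTest Data.kw Data.fixPts) 44000 2000 = true := by
  decide +kernel

theorem fixk46000 : CosetEnum.allFrom (fixTest Data.kw Data.fixPts) 46000 2000 = true := by
  decide +kernel

end CfsgLib.OnanOut
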