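import Cfsg.Agent.OnanOut.Setup

/-! Generated: fixed points -/

set_option autoImplicit false
set_option maxRecDepth 100000
set_option Elab.async false

namespace CfsgLib.OnanOut

theorem fixk48000 : CosetEnum.allFrom (fixTest Data.kw Data.fixPts) 48000 2000 = true := by
  decide +kernel

theorem fixk50000 : CosetEnum.allFrom (fixTest Data.kw Data.fixPts) 50000 2000 = true := by
  decide +kernel

theorem fixk52000 : CosetEnum.allFrom (fixTest Data.kw Data.fixPts) 52000 2000 = true := by
  decide +kernel

theorem fixk54000 : CosetEnum.allFrom (fixTest Data.kw Data.fixPts) 54000 2000 = true := by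
  decide +kernel

theorem fixk56000 : CosetEnum.allFrom (fixTest Data.kw Data.fixPts) 56000 2000 = true := by
  decide +kernel

theorem fixk58000 : CosetEnum.allFrom (fixTest Data.kw Data.fixPts) 58000 2000 = true := by
  decide +kernel

theorem fixk60000 : CosetEnum.allFrom (fixTest Data.kw Data.fixPts) 60000 2000 = true := by
  decide +kernel

theorem fixk62000 : CosetEnum.allFrom (fixTest Data.kw Data.fixPts) 62000 2000 = true := by
  decide +kernel

end CfsgLib.OnanOut
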