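import Cfsg.Agent.OnanOut.Setup

/-! Generated: fixed points -/

set_option autoImplicit false
set_option maxRecDepth 100000
set_option Elab.async false

namespace CfsgLib.OnanOut

theorem fixk64000 : CosetEnum.allFrom (fixTest Data.kw Data.fixPts) 64000 2000 = true := by
  decide +kernel

theorem fixk66000 : CosetEnum.allFrom (fixTest Data.kw Data.fixPts) 66000 2000 = true := by
  decide +kernel

theorem fixk68000 : CosetEnum.allFrom (fixTest Data.kw Data.fixPts) 68000 2000 = true := by
  decide +kernel

theorem fixk70000 : CosetEnum.allFrom (fixTest Data.kw Data.fixPts) 70000 2000 = true := by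
  decide +kernel

theorem fixk72000 : CosetEnum.allFrom (fixTest Data.kw Data.fixPts) 72000 2000 = true := by
  decide +kernel

theorem fixk74000 : CosetEnum.allFrom (fixTest Data.kw Data.fixPts) 74000 2000 = true := by
  decide +kernel

theorem fixk76000 : CosetEnum.allFrom (fixTest Data.kw Data.fixPts) 76000 2000 = true := by
  decide +kernel

theorem fixk78000 : CosetEnum.allFrom (fixTest Data.kw Data.fixPts) 78000 2000 = true := by
  decide +kernel

end CfsgLib.OnanOut
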