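import Cfsg.Agent.OnanOut.Setup

/-! Generated: fixed points -/

set_option autoImplicit false
set_option maxRecDepth 100000
set_option Elab.async false

namespace CfsgLib.OnanOut

theorem fixk80000 : CosetEnum.allFrom (fixTest Data.kw Data.fixPts) 80000 2000 = true := by
  decide +kernel

theorem fixk82000 : CosetEnum.allFrom (fixTest Data.kw Data.fixPts) 82000 2000 = true := by
  decide +kernel

theorem fixk84000 : CosetEnum.allFrom (fixTest Data.kw Data.fixPts) 84000 2000 = true := by
  decide +kernel

theorem fixk86000 : CosetEnum.allFrom (fixTest Data.kw Data.fixPts) 86000 2000 = true := by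
  decide +kernel

theorem fixk88000 : CosetEnum.allFrom (fixTest Data.kw Data.fixPts) 88000 2000 = true := by
  decide +kernel

theorem fixk90000 : CosetEnum.allFrom (fixTest Data.kw Data.fixPts) 90000 2000 = true := by
  decide +kernel

theorem fixk92000 : CosetEnum.allFrom (fixTest Data.kw Data.fixPts) 92000 2000 = true := by
  decide +kernel

theorem fixk94000 : CosetEnum.allFrom (fixTest Data.kw Data.fixPts) 94000 2000 = true := by
  decide +kernel

end CfsgLib.OnanOut
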