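import Cfsg.Agent.OnanOut.Setup

/-! Generated: fixed points -/

set_option autoImplicit false
set_option maxRecDepth 100000
set_option Elab.async false

namespace CfsgLib.OnanOut

theorem fixk96000 : CosetEnum.allFrom (fixTest Data.kw Data.fixPts) 96000 2000 = true := by
  decide +kernel

theorem fixk98000 : CosetEnum.allFrom (fixTest Data.kw Data.fixPts) 98000 2000 = true := by
  decide +kernel

theorem fixk100000 : CosetEnum.allFrom (fixTest Data.kw Data.fixPts) 100000 2000 = true := by
  decide +kernel

theorem fixk102000 : CosetEnum.allFrom (fixTest Data.kw Data.fixPts) 102000 2000 = true := by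
  decide +kernel

theorem fixk104000 : CosetEnum.allFrom (fixTest Data.kw Data.fixPts) 104000 2000 = true := by
  decide +kernel

theorem fixk106000 : CosetEnum.allFrom (fixTest Data.kw Data.fixPts) 106000 2000 = true := by
  decide +kernel

theorem fixk108000 : CosetEnum.allFrom (fixTest Data.kw Data.fixPts) 108000 2000 = true := by
  decide +kernel

theorem fixk110000 : CosetEnum.allFrom (fixTest Data.kw Data.fixPts) 110000 2000 = true := by
  decide +kernel

end CfsgLib.OnanOut
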