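import Cfsg.Agent.OnanOut.Setup

/-! Generated: fixed points -/

set_option autoImplicit false
set_option maxRecDepth 100000
set_option Elab.async false

namespace CfsgLib.OnanOut

theorem fixk112000 : CosetEnum.allFrom (fixTest Data.kw Data.fixPts) 112000 2000 = true := by
  decide +kernel

theorem fixk114000 : CosetEnum.allFrom (fixTest Data.kw Data.fixPts) 114000 2000 = true := by
  decide +kernel

theorem fixk116000 : CosetEnum.allFrom (fixTest Data.kw Data.fixPts) 116000 2000 = true := by
  decide +kernel

theorem fixk118000 : CosetEnum.allFrom (fixTest Data.kw Data.fixPts) 118000 2000 = true := by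
  decide +kernel

theorem fixk120000 : CosetEnum.allFrom (fixTest Data.kw Data.fixPts) 120000 2000 = true := by
  decide +kernel

theorem fixk122000 : CosetEnum.allFrom (fixTest Data.kw Data.fixPts) 122000 760 = true := by
  decide +kernel

end CfsgLib.OnanOut
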