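import Cfsg.Agent.OnanOut.Setup

/-! Generated: fixed points -/

set_option autoImplicit false
set_option maxRecDepth 100000
set_option Elab.async false

namespace CfsgLib.OnanOut

theorem fixy0 : CosetEnum.allFrom (fixTest Data.yw [0]) 0 2000 = true := by
  decide +kernel

theorem fixy2000 : CosetEnum.allFrom (fixTest Data.yw [0]) 2000 2000 = true := by
  decide +kernel

theorem fixy4000 : CosetEnum.allFrom (fixTest Data.yw [0]) 4000 2000 = true := by
  decide +kernel

theorem fixy6000 : CosetEnum.allFrom (fixTest Data.yw [0]) 6000 2000 = true := by
  decide +kernel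

theorem fixy8000 : CosetEnum.allFrom (fixTest Data.yw [0]) 8000 2000 = true := by
  decide +kernel

theorem fixy10000 : CosetEnum.allFrom (fixTest Data.yw [0]) 10000 2000 = true := by
  decide +kernel

theorem fixy12000 : CosetEnum.allFrom (fixTest Data.yw [0]) 12000 2000 = true := by
  decide +kernel

theorem fixy14000 : CosetEnum.allFrom (fixTest Data.yw [0]) 14000 2000 = true := by
  decide +kernel

theorem fixy16000 : CosetEnum.allFrom (fixTest Data.yw [0]) 16000 2000 = true := by
  decide +kernel

theorem fixy18000 : CosetEnum.allFrom (fixTest Data.yw [0]) 18000 2000 = true := by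
  decide +kernel

theorem fixy20000 : CosetEnum.allFrom (fixTest Data.yw [0]) 20000 2000 = true := by
  decide +kernel

theorem fixy22000 : CosetEnum.allFrom (fixTest Data.yw [0]) 22000 2000 = true := by
  decide +kernel

theorem fixy24000 : CosetEnum.allFrom (fixTest Data.yw [0]) 24000 2000 = true := by
  decide +kernel

theorem fixy26000 : CosetEnum.allFrom (fixTest Data.yw [0]) 26000 2000 = true := by
  decide +kernel

theorem fixy28000 : CosetEnum.allFrom (fixTest Data.yw [0]) 28000 2000 = true := by
  decide +kernel

theorem fixy30000 : CosetEnum.allFrom (fixTest Data.yw [0]) 30000 2000 = true := by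
  decide +kernel

theorem fixy32000 : CosetEnum.allFrom (fixTest Data.yw [0]) 32000 2000 = true := by
  decide +kernel

theorem fixy34000 : CosetEnum.allFrom (fixTest Data.yw [0]) 34000 2000 = true := by
  decide +kernel

theorem fixy36000 : CosetEnum.allFrom (fixTest Data.yw [0]) 36000 2000 = true := by
  decide +kernel

theorem fixy38000 : CosetEnum.allFrom (fixTest Data.yw [0]) 38000 2000 = true := by
  decide +kernel

theorem fixy40000 : CosetEnum.allFrom (fixTest Data.yw [0]) 40000 2000 = true := by
  decide +kernel

theorem fixy42000 : CosetEnum.allFrom (fixTest Data.yw [0]) 42000 2000 = true := by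
  decide +kernel

theorem fixy44000 : CosetEnum.allFrom (fixTest Data.yw [0]) 44000 2000 = true := by
  decide +kernel

theorem fixy46000 : CosetEnum.allFrom (fixTest Data.yw [0]) 46000 2000 = true := by
  decide +kernel

theorem fixy48000 : CosetEnum.allFrom (fixTest Data.yw [0]) 48000 2000 = true := by
  decide +kernel

theorem fixy50000 : CosetEnum.allFrom (fixTest Data.yw [0]) 50000 2000 = true := by
  decide +kernel

theorem fixy52000 : CosetEnum.allFrom (fixTest Data.yw [0]) 52000 2000 = true := by
  decide +kernel

theorem fixy54000 : CosetEnum.allFrom (fixTest Data.yw [0]) 54000 2000 = true := by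
  decide +kernel

theorem fixy56000 : CosetEnum.allFrom (fixTest Data.yw [0]) 56000 2000 = true := by
  decide +kernel

theorem fixy58000 : CosetEnum.allFrom (fixTest Data.yw [0]) 58000 2000 = true := by
  decide +kernel

theorem fixy60000 : CosetEnum.allFrom (fixTest Data.yw [0]) 60000 2000 = true := by
  decide +kernel

theorem fixy62000 : CosetEnum.allFrom (fixTest Data.yw [0]) 62000 2000 = true := by
  decide +kernel

end CfsgLib.OnanOut
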