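import Cfsg.Agent.OnanOut.Setup

/-! Generated: fixed points -/

set_option autoImplicit false
set_option maxRecDepth 100000
set_option Elab.async false

namespace CfsgLib.OnanOut

theorem fixy64000 : CosetEnum.allFrom (fixTest Data.yw [0]) 64000 2000 = true := by
  decide +kernel

theorem fixy66000 : CosetEnum.allFrom (fixTest Data.yw [0]) 66000 2000 = true := by
  decide +kernel

theorem fixy68000 : CosetEnum.allFrom (fixTest Data.yw [0]) 68000 2000 = true := by
  decide +kernel

theorem fixy70000 : CosetEnum.allFrom (fixTest Data.yw [0]) 70000 2000 = true := by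
  decide +kernel

theorem fixy72000 : CosetEnum.allFrom (fixTest Data.yw [0]) 72000 2000 = true := by
  decide +kernel

theorem fixy74000 : CosetEnum.allFrom (fixTest Data.yw [0]) 74000 2000 = true := by
  decide +kernel

theorem fixy76000 : CosetEnum.allFrom (fixTest Data.yw [0]) 76000 2000 = true := by
  decide +kernel

theorem fixy78000 : CosetEnum.allFrom (fixTest Data.yw [0]) 78000 2000 = true := by
  decide +kernel

theorem fixy80000 : CosetEnum.allFrom (fixTest Data.yw [0]) 80000 2000 = true := by
  decide +kernel

theorem fixy82000 : CosetEnum.allFrom (fixTest Data.yw [0]) 82000 2000 = true := by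
  decide +kernel

theorem fixy84000 : CosetEnum.allFrom (fixTest Data.yw [0]) 84000 2000 = true := by
  decide +kernel

theorem fixy86000 : CosetEnum.allFrom (fixTest Data.yw [0]) 86000 2000 = true := by
  decide +kernel

theorem fixy88000 : CosetEnum.allFrom (fixTest Data.yw [0]) 88000 2000 = true := by
  decide +kernel

theorem fixy90000 : CosetEnum.allFrom (fixTest Data.yw [0]) 90000 2000 = true := by
  decide +kernel

theorem fixy92000 : CosetEnum.allFrom (fixTest Data.yw [0]) 92000 2000 = true := by
  decide +kernel

theorem fixy94000 : CosetEnum.allFrom (fixTest Data.yw [0]) 94000 2000 = true := by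
  decide +kernel

theorem fixy96000 : CosetEnum.allFrom (fixTest Data.yw [0]) 96000 2000 = true := by
  decide +kernel

theorem fixy98000 : CosetEnum.allFrom (fixTest Data.yw [0]) 98000 2000 = true := by
  decide +kernel

theorem fixy100000 : CosetEnum.allFrom (fixTest Data.yw [0]) 100000 2000 = true := by
  decide +kernel

theorem fixy102000 : CosetEnum.allFrom (fixTest Data.yw [0]) 102000 2000 = true := by
  decide +kernel

theorem fixy104000 : CosetEnum.allFrom (fixTest Data.yw [0]) 104000 2000 = true := by
  decide +kernel

theorem fixy106000 : CosetEnum.allFrom (fixTest Data.yw [0]) 106000 2000 = true := by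
  decide +kernel

theorem fixy108000 : CosetEnum.allFrom (fixTest Data.yw [0]) 108000 2000 = true := by
  decide +kernel

theorem fixy110000 : CosetEnum.allFrom (fixTest Data.yw [0]) 110000 2000 = true := by
  decide +kernel

theorem fixy112000 : CosetEnum.allFrom (fixTest Data.yw [0]) 112000 2000 = true := by
  decide +kernel

theorem fixy114000 : CosetEnum.allFrom (fixTest Data.yw [0]) 114000 2000 = true := by
  decide +kernel

theorem fixy116000 : CosetEnum.allFrom (fixTest Data.yw [0]) 116000 2000 = true := by
  decide +kernel

theorem fixy118000 : CosetEnum.allFrom (fixTest Data.yw [0]) 118000 2000 = true := by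
  decide +kernel

theorem fixy120000 : CosetEnum.allFrom (fixTest Data.yw [0]) 120000 2000 = true := by
  decide +kernel

theorem fixy122000 : CosetEnum.allFrom (fixTest Data.yw [0]) 122000 760 = true := by
  decide +kernel

end CfsgLib.OnanOut
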