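import Cfsg.Agent.OnanOut.Setup

/-! Generated: relations of the images -/

set_option autoImplicit false
set_option maxRecDepth 100000
set_option Elab.async false

namespace CfsgLib.OnanOut

theorem rel0 : onA.relOK cert bsK (cert.rels.getD 0 []) = true := by
  decide +kernel

theorem rel1 : onA.relOK cert bsK (cert.rels.getD 1 []) = true := by
  decide +kernel

theorem rel2 : onA.relOK cert bsK (cert.rels.getD 2 []) = true := by
  decide +kernel

theorem rel3 : onA.relOK cert bsK (cert.rels.getD 3 []) = true := by
  decide +kernel

theorem rel4 : onA.relOK cert bsK (cert.rels.getD 4 []) = true := by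
  decide +kernel

theorem rel5 : onA.relOK cert bsK (cert.rels.getD 5 []) = true := by
  decide +kernel

theorem rel6 : onA.relOK cert bsK (cert.rels.getD 6 []) = true := by
  decide +kernel

theorem rel7 : onA.relOK cert bsK (cert.rels.getD 7 []) = true := by
  decide +kernel

theorem rel8 : onA.relOK cert bsK (cert.rels.getD 8 []) = true := by
  decide +kernel

theorem rel9 : onA.relOK cert bsK (cert.rels.getD 9 []) = true := by
  decide +kernel

end CfsgLib.OnanOut
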