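import Cfsg.Agent.OnanOut.Setup

/-! Generated: relations of the images -/

set_option autoImplicit false
set_option maxRecDepth 100000
set_option Elab.async false

namespace CfsgLib.OnanOut

theorem rel10 : onA.relOK cert bsK (cert.rels.getD 10 []) = true := by
  decide +kernel

theorem rel11 : onA.relOK cert bsK (cert.rels.getD 11 []) = true := by
  decide +kernel

theorem rel12 : onA.relOK cert bsK (cert.rels.getD 12 []) = true := by
  decide +kernel

theorem rel13 : onA.relOK cert bsK (cert.rels.getD 13 []) = true := by
  decide +kernel

theorem rel14 : onA.relOK cert bsK (cert.rels.getD 14 []) = true := by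
  decide +kernel

theorem rel15 : onA.relOK cert bsK (cert.rels.getD 15 []) = true := by
  decide +kernel

theorem rel16 : onA.relOK cert bsK (cert.rels.getD 16 []) = true := by
  decide +kernel

theorem rel17 : onA.relOK cert bsK (cert.rels.getD 17 []) = true := by
  decide +kernel

theorem rel18 : onA.relOK cert bsK (cert.rels.getD 18 []) = true := by
  decide +kernel

theorem rel19 : onA.relOK cert bsK (cert.rels.getD 19 []) = true := by
  decide +kernel

end CfsgLib.OnanOut
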