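import Cfsg.Agent.OnanOut.Setup

/-! Generated: relations of the images -/

set_option autoImplicit false
set_option maxRecDepth 100000
set_option Elab.async false

namespace CfsgLib.OnanOut

theorem rel20 : onA.relOK cert bsK (cert.rels.getD 20 []) = true := by
  decide +kernel

theorem rel21 : onA.relOK cert bsK (cert.rels.getD 21 []) = true := by
  decide +kernel

theorem rel22 : onA.relOK cert bsK (cert.rels.getD 22 []) = true := by
  decide +kernel

theorem rel23 : onA.relOK cert bsK (cert.rels.getD 23 []) = true := by
  decide +kernel

theorem rel24 : onA.relOK cert bsK (cert.rels.getD 24 []) = true := by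
  decide +kernel

theorem rel25 : onA.relOK cert bsK (cert.rels.getD 25 []) = true := by
  decide +kernel

theorem rel26 : onA.relOK cert bsK (cert.rels.getD 26 []) = true := by
  decide +kernel

theorem rel27 : onA.relOK cert bsK (cert.rels.getD 27 []) = true := by
  decide +kernel

end CfsgLib.OnanOut
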