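import Cfsg.Agent.OnanOut.Setup

/-! Generated: centraliser search -/

set_option autoImplicit false
set_option maxRecDepth 100000
set_option Elab.async false

namespace CfsgLib.OnanOut

theorem sk0 : onA.centKOK cert bsK (Data.fk.getD 0 (0, [])) = true := by
  decide +kernel

theorem sk1 : onA.centKOK cert bsK (Data.fk.getD 1 (0, [])) = true := by
  decide +kernel

theorem sk2 : onA.centKOK cert bsK (Data.fk.getD 2 (0, [])) = true := by
  decide +kernel

theorem sk3 : onA.centKOK cert bsK (Data.fk.getD 3 (0, [])) = true := by
  decide +kernel

theorem sk4 : onA.centKOK cert bsK (Data.fk.getD 4 (0, [])) = true := by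
  decide +kernel

theorem sk5 : onA.centKOK cert bsK (Data.fk.getD 5 (0, [])) = true := by
  decide +kernel

theorem sk6 : onA.centKOK cert bsK (Data.fk.getD 6 (0, [])) = true := by
  decide +kernel

theorem sk7 : onA.centKOK cert bsK (Data.fk.getD 7 (0, [])) = true := by
  decide +kernel

theorem sk8 : onA.centKOK cert bsK (Data.fk.getD 8 (0, [])) = true := by
  decide +kernel

end CfsgLib.OnanOut
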