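import Cfsg.Agent.OnanOut.Setup

/-! Generated: centraliser search -/

set_option autoImplicit false
set_option maxRecDepth 100000
set_option Elab.async false

namespace CfsgLib.OnanOut

theorem sy8 : (unpackPart Data.lvY1P8).all stepY = true := by
  decide +kernel

theorem sy9 : (unpackPart Data.lvY1P9).all stepY = true := by
  decide +kernel

theorem sy10 : (unpackPart Data.lvY1P10).all stepY = true := by
  decide +kernel

theorem sy11 : (unpackPart Data.lvY1P11).all stepY = true := by
  decide +kernel

end CfsgLib.OnanOut
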