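import Cfsg.Agent.OnanOut.Setup

/-! Generated: fixed points -/

set_option autoImplicit false
set_option maxRecDepth 100000
set_option Elab.async false

namespace CfsgLib.OnanOut

theorem fixk0 : CosetEnum.allFrom (fixTest Data.kw Data.fixPts) 0 2000 = true := by
  decide +kernel

theorem fixk2000 : CosetEnum.allFrom (fixTest Data.kw Data.fixPts) 2000 2000 = true := by
  decide +kernel

theorem fixk4000 : CosetEnum.allFrom (fixTest Data.kw Data.fixPts) 4000 2000 = true := by
  decide +kernel

theorem fixk6000 : CosetEnum.allFrom (fixTest Data.kw Data.fixPts) 6000 2000 = true := by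
  decide +kernel

theorem fixk8000 : CosetEnum.allFrom (fixTest Data.kw Data.fixPts) 8000 2000 = true := by
  decide +kernel

theorem fixk10000 : CosetEnum.allFrom (fixTest Data.kw Data.fixPts) 10000 2000 = true := by
  decide +kernel

theorem fixk12000 : CosetEnum.allFrom (fixTest Data.kw Data.fixPts) 12000 2000 = true := by
  decide +kernel

theorem fixk14000 : CosetEnum.allFrom (fixTest Data.kw Data.fixPts) 14000 2000 = true := by
  decide +kernel

end CfsgLib.OnanOut
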