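import Cfsg.Agent.OnanOut.Setup

/-! Generated: centraliser search -/

set_option autoImplicit false
set_option maxRecDepth 100000
set_option Elab.async false

namespace CfsgLib.OnanOut

theorem sy4 : (unpackPart Data.lvY1P4).all stepY = true := by
  decide +kernel

theorem sy5 : (unpackPart Data.lvY1P5).all stepY = true := by
  decide +kernel

theorem sy6 : (unpackPart Data.lvY1P6).all stepY = true := by
  decide +kernel

theorem sy7 : (unpackPart Data.lvY1P7).all stepY = true := by
  decide +kernel

end CfsgLib.OnanOut
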